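import Cfsg.Agent.ZJF.Bar
import Cfsg.Agent.ZJF.FP
import Cfsg.Agent.Gold.StrongClosed

/-!
Glauberman's theorem: if `Z(J(S))` does not control strong fusion (`p` odd), then `N(Z(J(S)))`
contains the configuration giving a section `F(p)`.
-/

set_option autoImplicit false

open Subgroup Cfsg.Lib.Trans Cfsg.Lib.Trans.TJ Cfsg.Lib.Solv
open scoped commutatorElement

namespace Cfsg.Lib.ZJF

local notation "𝐂" A:max => Subgroup.centralizer (SetLike.coe A)
local notation "𝐍" A:max => Subgroup.normalizer (SetLike.coe A)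

universe u

variable {p : ℕ} [hp : Fact p.Prime]

section

variable {G : Type*} [Group G] [Finite G]

theorem exists_sylow_zj {S X : Subgroup G} (hS : IsSylowIn p S ⊤) (hX : X ≤ centerThompsonOf 0 S) :
    ∃ T, IsSylowIn p T (𝐍 X) ∧ S ⊓ 𝐍 X ≤ T ∧ centerThompsonOf 0 T = centerThompsonOf 0 S := by
  obtain ⟨T, hT, hST⟩ := exists_isSylowIn_ge (hS.isPGroup.to_le inf_le_left)
    (inf_le_right : S ⊓ 𝐍 X ≤ 𝐍 X)
  refine ⟨T, hT, hST, ?_⟩
  have h1 : thompsonSubgroupOf 0 S ≤ T := (le_inf (J_le S) ((le_centralizer_iff.1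
    (hX.trans inf_le_right)).trans (centralizer_le_normalizer _))).trans hST
  have h2 : thompsonSubgroupOf 0 S ≤ thompsonSubgroupOf 0 T := J_le_iff.2 fun A hA =>
    ((st_of_maxEA hS hA).maxEA (hA.le_J.trans h1) le_top hT.isPGroup).le_J
  obtain ⟨x, -, hx⟩ := hS.exists_cj_le hT.isPGroup le_top
  obtain ⟨A, hA⟩ := exists_maxEA 0 S
  have h3 : cj x (thompsonSubgroupOf 0 T) ≤ thompsonSubgroupOf 0 S := by
    rw [cj_le_iff_le_cj_inv, J_le_iff]
    intro B hB
    rw [← cj_le_iff_le_cj_inv, ← Js_eq hS]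
    exact (((st_of_maxEA hS hA).of_maxEA (hA.le_J.trans h1) le_top hT.isPGroup hB).cj
      (mem_top x)).le_Js ((cj_mono x hB.le).trans hx)
  have h4 : thompsonSubgroupOf 0 S = thompsonSubgroupOf 0 T :=
    Subgroup.eq_of_le_of_card_ge h2 (card_cj x _ ▸ Trans.card_le_of_le h3)
  rw [centerThompsonOf, centerThompsonOf, h4]

omit hp [Finite G] in
theorem ctlFus_map_mk {W T L E : Subgroup G} [W.Normal] (hW : W ≤ T) (h : CtlFus (E : Set G) T L) :
    CtlFus (E.map (QuotientGroup.mk' W) : Subgroup (G ⧸ W)) (T.map (QuotientGroup.mk' W))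
      (L.map (QuotientGroup.mk' W)) := by
  have hT : (T.map (QuotientGroup.mk' W)).comap (QuotientGroup.mk' W) = T :=
    comap_map_eq_self (by rwa [QuotientGroup.ker_mk'])
  rw [ctlFus_subgroup_iff'] at h ⊢
  rintro A hA _ ⟨g, hg, rfl⟩ h1
  obtain ⟨x, hx, c, hc, rfl⟩ := h (A.comap (QuotientGroup.mk' W)) (hT ▸ comap_mono hA) g hg
    (by rw [← comap_cj, ← hT]; exact comap_mono h1)
  refine ⟨_, ⟨x, hx, rfl⟩, _, ?_, map_mul _ x c⟩
  have := map_mem_centralizer_map (QuotientGroup.mk' W) hc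
  rwa [map_comap_eq_self_of_surjective (QuotientGroup.mk'_surjective W)] at this

theorem step (hp2 : p ≠ 2) {S : Subgroup G} (hS : IsSylowIn p S ⊤) (lam : (ZMod p)ˣ)
    (hIT : ∀ X ≤ centerThompsonOf 0 S, 𝐍 X ≠ ⊤ → ∃ T, IsSylowIn p T (𝐍 X) ∧ S ⊓ 𝐍 X ≤ T ∧
      T ≤ 𝐍 (centerThompsonOf 0 S) ∧ CtlFus (𝐍 (centerThompsonOf 0 S) : Subgroup G) T (𝐍 X))
    (hn : ¬ ∀ a ∈ centerThompsonOf 0 S, ∀ g : G, g * a * g⁻¹ ∈ S →
      g * a * g⁻¹ ∈ centerThompsonOf 0 S) :
    FC (𝐍 (centerThompsonOf 0 S)) (centerThompsonOf 0 S) lam := by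
  set Z := centerThompsonOf 0 S with hZ
  have hZS : Z ≤ S := centerThompsonOf_le 0 S
  have hSZ : S ≤ 𝐍 Z := le_normalizer.trans (normalizer_le_normalizer_centerThompsonOf 0 S)
  let W := Z.normalCore
  let f := QuotientGroup.mk' W
  have hf : Function.Surjective f := QuotientGroup.mk'_surjective W
  have hk : f.ker = W := QuotientGroup.ker_mk' W
  have hWZ : W ≤ Z := normalCore_le Z
  have hfZ : (Z.map f).comap f = Z := comap_map_eq_self (hk.le.trans hWZ)
  have hfS : (S.map f).comap f = S := comap_map_eq_self (hk.le.trans (hWZ.trans hZS))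
  have hN : ∀ X : Subgroup (G ⧸ W), (𝐍 X).comap f = 𝐍 (X.comap f) := fun X =>
    comap_normalizer_eq_of_surjective X hf
  have hne : ∀ X : Subgroup (G ⧸ W), X ≠ ⊥ → X ≤ Z.map f → 𝐍 (X.comap f) ≠ ⊤ := fun X h0 hX e => by
    have := normalizer_eq_top_iff.1 e
    have h1 : X.comap f ≤ W := normal_le_normalCore.2 ((comap_mono hX).trans hfZ.le)
    rw [← map_comap_eq_self_of_surjective hf X, Ne, Subgroup.map_eq_bot_iff] at h0
    exact h0 (h1.trans hk.ge)
  have hI : IT p (S.map f) (Z.map f) := by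
    refine ⟨hS.map_mk' W, map_mono hZS, (map_mono hSZ).trans (le_normalizer_map f), fun X h0 hX => ?_⟩
    obtain ⟨T, h1, h2, h3, h4⟩ := hIT (X.comap f) ((comap_mono hX).trans hfZ.le) (hne X h0 hX)
    have h5 : (𝐍 (X.comap f)).map f = 𝐍 X := by
      rw [← hN, map_comap_eq_self_of_surjective hf]
    refine ⟨T.map f, h5 ▸ h1.map f, ?_, (map_mono h3).trans (le_normalizer_map f), ?_⟩
    · rintro _ ⟨⟨s, hs, rfl⟩, h6⟩
      exact ⟨s, h2 ⟨hs, hN X ▸ h6⟩, rfl⟩
    · have h6 : W ≤ T := (le_inf (hWZ.trans hZS)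
        ((hk.ge.trans (ker_le_comap f X)).trans le_normalizer)).trans h2
      exact h5 ▸ (ctlFus_map_mk h6 h4).mono (le_normalizer_map f)
  obtain ⟨P, hP, hPn, hPs, hmax⟩ := hI.exists_max fun h => hn fun a ha g hg => by
    have := h (f a) ⟨a, ha, rfl⟩ (f g) ⟨_, hg, by simp only [map_mul, map_inv]⟩
    rw [← hfZ, mem_comap]
    simpa only [map_mul, map_inv] using this
  set D := Z.map f ⊓ Vz p P with hD
  have hD0 : D ≠ ⊥ := IT.ne_bot_of_not_le hPn
  have hDZ : D.comap f ≤ Z := (comap_mono inf_le_left).trans hfZ.le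
  have hFC : FC (𝐍 (D.comap f)) (D.comap f) lam := by
    by_cases hlt : S.map f ⊓ 𝐍 P < S.map f
    · have := ((hI.hyp hP hPn hPs hmax hlt).fc hp2 lam).comap hf
        (hS.isPGroup.to_le (hk.le.trans (hWZ.trans hZS)))
      rwa [hN] at this
    · have hSP : S.map f ≤ 𝐍 P := inf_eq_left.1 ((inf_le_left.lt_or_eq).resolve_left hlt)
      have hVP := normalizer_le_normalizer_omegaOne_center (p := p) P
      have hYB : (𝐍 P).comap f ≤ 𝐍 ((Vz p P).comap f) := hN _ ▸ comap_mono hVP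
      have hZc : thompsonSubgroupOf 0 S ≤ 𝐂 Z := le_centralizer_iff.1 inf_le_right
      have hDe : D.comap f = Z ⊓ (Vz p P).comap f := by rw [hD, comap_inf, hfZ]
      refine Hyp.fc (Y := (𝐍 P).comap f) (W := W) (B := (Vz p P).comap f) (T := S) hp2
        ⟨hS.mono (hfS.ge.trans (comap_mono hSP)) le_top, (comap_mono ((Vz_le P).trans hP)).trans hfS.le, hYB, ?_,
          fun b hb => ?_, comap_mono inf_le_right, ?_, ?_, hZc.trans (centralizer_le hWZ), ?_,
          fun d hd h1 k hk' h2 => ?_, fun I hI' => ?_⟩ lam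
      · refine le_trans ?_ hk.le
        rw [← Subgroup.map_eq_bot_iff, map_commutator, map_comap_eq_self_of_surjective hf]
        exact ea_commutator_self (ea_omegaOne_center P)
      · refine hk.le ?_
        rw [MonoidHom.mem_ker, map_pow]
        exact ea_pow (ea_omegaOne_center P) hb
      · rw [hDe]
        exact (le_inf hSZ ((hfS.ge.trans (comap_mono hSP)).trans hYB)).trans inf_normalizer_le_normalizer_inf
      · rw [← hN, comap_le_comap_of_surjective hf]
        exact hPn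
      · rw [hDe]
        exact (inf_le_inf hYB (normalizer_J_le_normalizer_centerThompsonOf 0 S)).trans
          ((inf_comm _ _).le.trans inf_normalizer_le_normalizer_inf)
      · rw [← hN]
        have h3 : f (k * d * k⁻¹ * d⁻¹) = 1 := hk.ge h2
        exact hI.ti hP hd (fun e => h1 (hk.le e)) hk' (by simpa only [map_mul, map_inv] using h3)
      · obtain ⟨d, hd, hd1⟩ := (Subgroup.bot_or_exists_ne_one D).resolve_left hD0
        obtain ⟨d, rfl⟩ := hf d
        refine ⟨d, hd, fun h1 => hd1 (hk.ge h1), ?_⟩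
        exact centralizer_le hI' (le_centralizer_iff.1 hZc (hDZ hd))
  obtain ⟨T, h1, -, h3, h4⟩ := hIT _ hDZ (hne D hD0 inf_le_left)
  exact hFC.realize h1 le_rfl h3 h4 hDZ

end

theorem main (hp2 : p ≠ 2) (lam : (ZMod p)ˣ) (n : ℕ) : ∀ (G : Type u) [Group G] [Finite G],
    Nat.card G = n → ∀ S : Subgroup G, IsSylowIn p S ⊤ →
      CtlFus (𝐍 (centerThompsonOf 0 S) : Subgroup G) S ⊤ ∨
        FC (𝐍 (centerThompsonOf 0 S)) (centerThompsonOf 0 S) lam := by
  induction n using Nat.strong_induction_on with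
  | _ n ih =>
  intro G _ _ hG S hS
  by_contra hc
  push Not at hc
  refine hc.2 (step hp2 hS lam (fun X hX hne => ?_) fun h => hc.1 ?_)
  · obtain ⟨T, hT, hST, hZ⟩ := exists_sylow_zj hS hX
    have hTZ := le_normalizer.trans (normalizer_le_normalizer_centerThompsonOf 0 T)
    have hi := (𝐍 X).subtype_injective
    have h1 : (T.subgroupOf (𝐍 X)).map (𝐍 X).subtype = T := map_subgroupOf_eq_of_le hT.le
    have h2 : (centerThompsonOf 0 (T.subgroupOf (𝐍 X))).map (𝐍 X).subtype =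
        centerThompsonOf 0 S := by rw [map_centerThompsonOf 0 _ hi, h1, hZ]
    have h3 : (𝐍 (centerThompsonOf 0 (T.subgroupOf (𝐍 X)))).map (𝐍 X).subtype ≤
        𝐍 (centerThompsonOf 0 S) := h2 ▸ le_normalizer_map _
    refine ⟨T, hT, hST, hZ ▸ hTZ, ?_⟩
    have h4 : Nat.card (𝐍 X) < n := by
      rw [← hG, ← card_top (G := G)]
      exact Trans.card_lt_of_lt (lt_top_iff_ne_top.2 hne)
    rcases ih _ h4 (𝐍 X) rfl _ hT.subgroupOf_top with h | h
    · have := (h.map _ hi).mono (E' := (𝐍 (centerThompsonOf 0 S) : Subgroup G)) h3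
      rwa [h1, ← MonoidHom.range_eq_map, range_subtype] at this
    · exact absurd ((h.map hi).mono h3 h2.le) hc.2
  · exact (Gold.ctlFus_normalizer_of_stronglyClosed hS (centerThompsonOf_le 0 S)
      (inf_centralizer_le_centralizer_self _) fun a ha g _ => h a ha g).mono inf_le_right

end Cfsg.Lib.ZJF
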