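import Cfsg.Agent.ZJF.Core
import Cfsg.Agent.FT.Core
import Cfsg.Agent.Trans.QdFusion

/-!
The choice of the local subgroup.
-/

set_option autoImplicit false

open Subgroup Cfsg.Lib.Trans Cfsg.Lib.Trans.TJ Cfsg.Lib.Solv
open scoped commutatorElement

namespace Cfsg.Lib.ZJF

local notation "𝐂" A:max => Subgroup.centralizer (SetLike.coe A)
local notation "𝐍" A:max => Subgroup.normalizer (SetLike.coe A)

variable {p : ℕ} {G : Type*} [Group G]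

/-- `Ω₁(Z(P))`. -/
abbrev Vz (p : ℕ) (P : Subgroup G) : Subgroup G := omegaOne p (P ⊓ 𝐂 P)

/-- `N(Z)` controls fusion in the normalizers of the nontrivial subgroups of `Z`. -/
structure IT (p : ℕ) (S Z : Subgroup G) : Prop where
  syl : IsSylowIn p S ⊤
  ZS : Z ≤ S
  SZ : S ≤ 𝐍 Z
  ctl : ∀ X, X ≠ ⊥ → X ≤ Z → ∃ T, IsSylowIn p T (𝐍 X) ∧ S ⊓ 𝐍 X ≤ T ∧ T ≤ 𝐍 Z ∧
    CtlFus (𝐍 Z : Subgroup G) T (𝐍 X)

theorem Vz_le (P : Subgroup G) : Vz p P ≤ P := (omegaOne_le _).trans inf_le_left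

variable [Finite G] [hp : Fact p.Prime] {S Z : Subgroup G}

theorem exists_mem_cent {D P : Subgroup G} (hP : IsPGroup p P) (hD : IsPGroup p D) (h : P ≤ 𝐍 D)
    (h0 : D ≠ ⊥) : ∃ d ∈ D, d ≠ 1 ∧ d ∈ 𝐂 P ∧ d ^ p = 1 := by
  obtain ⟨d, h1, h2, h3⟩ := exists_pow_eq_one_of_isPGroup (hD.to_le inf_le_left)
    (FT.pgroup_cent_ne_bot hP hD h h0)
  exact ⟨d, h1.1, h2, h1.2, h3⟩

namespace IT

theorem mem (h : IT p S Z) {X B : Subgroup G} (h0 : X ≠ ⊥) (hX : X ≤ Z) (hB : B ≤ S ⊓ 𝐍 X)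
    {g : G} (h1 : g ∈ 𝐍 X) (h2 : g ∈ 𝐍 B) : g ∈ 𝐍 (Z ⊓ B) := by
  obtain ⟨T, -, hT, -, hc⟩ := h.ctl X h0 hX
  obtain ⟨x, hx, c, hc, rfl⟩ := ctlFus_subgroup_iff'.1 hc B (hB.trans hT) g h1
    ((cj_eq_of_mem_normalizer h2).le.trans (hB.trans hT))
  refine mem_normalizer_of_cj_le (cj_le_iff.2 fun z hz => ⟨?_, mem_normalizer_conj h2 hz.2⟩)
  rw [show x * c * z * (x * c)⁻¹ = x * (c * z * c⁻¹) * x⁻¹ by group,
    conj_eq_of_mem_centralizer hc hz.2]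
  exact mem_normalizer_conj hx hz.1

theorem inf_Vz_ne_bot (h : IT p S Z) {U : Subgroup G} (hU : U ≤ S) (h0 : Z ⊓ U ≠ ⊥) :
    Z ⊓ Vz p U ≠ ⊥ := by
  obtain ⟨d, h1, h2, h3, h4⟩ := exists_mem_cent (h.syl.isPGroup.to_le hU)
    (h.syl.isPGroup.to_le (inf_le_left.trans h.ZS))
    ((le_inf (hU.trans h.SZ) le_normalizer).trans inf_normalizer_le_normalizer_inf) h0
  intro h5
  have : d ∈ Z ⊓ Vz p U := ⟨h1.1, mem_omegaOne_center_iff.2 ⟨h1.2, h3, h4⟩⟩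
  rw [h5] at this
  exact h2 this

theorem exists_fam (h : IT p S Z) (hn : ¬ ∀ a ∈ Z, ∀ g : G, g * a * g⁻¹ ∈ S → g * a * g⁻¹ ∈ Z) :
    ∃ P ≤ S, ¬ 𝐍 P ≤ 𝐍 (Z ⊓ Vz p P) := by
  by_contra hc
  push Not at hc
  refine hn fun a ha g hg => ?_
  refine alperin_induction' h.syl (fun A g => ∀ a ∈ A, a ∈ Z → g * a * g⁻¹ ∈ Z)
    (fun A B g hAB h1 a ha => h1 a (hAB ha)) (fun A g k h1 h2 a ha haZ => ?_)
    (fun U hU _ _ n hn a ha haZ => ?_) (zpowers a) (zpowers_le.2 (h.ZS ha)) g (mem_top g)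
    (by rw [cj_zpowers, zpowers_le]; exact hg) a (mem_zpowers a) ha
  · rw [show k * g * a * (k * g)⁻¹ = k * (g * a * g⁻¹) * k⁻¹ by group]
    exact h2 _ (conj_mem_cj.2 ha) (h1 a ha haZ)
  · by_cases h0 : Z ⊓ U = ⊥
    · have : a ∈ Z ⊓ U := ⟨haZ, ha⟩
      rw [h0, mem_bot] at this
      rw [this, mul_one, mul_inv_cancel]
      exact one_mem _
    · exact (mem_normalizer_conj (h.mem (h.inf_Vz_ne_bot hU h0) inf_le_left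
        (le_inf hU (le_normalizer.trans (hc U hU))) (hc U hU hn.2) hn.2) ⟨haZ, ha⟩).1

theorem exists_max (h : IT p S Z) (hn : ¬ ∀ a ∈ Z, ∀ g : G, g * a * g⁻¹ ∈ S → g * a * g⁻¹ ∈ Z) :
    ∃ P ≤ S, ¬ 𝐍 P ≤ 𝐍 (Z ⊓ Vz p P) ∧ IsSylowIn p (S ⊓ 𝐍 P) (𝐍 P) ∧
      ∀ P' ≤ S, S ⊓ 𝐍 P < S ⊓ 𝐍 P' → 𝐍 P' ≤ 𝐍 (Z ⊓ Vz p P') := by
  obtain ⟨P, ⟨hP, hPn⟩, hmax⟩ := Set.exists_max_image {P | P ≤ S ∧ ¬ 𝐍 P ≤ 𝐍 (Z ⊓ Vz p P)}
    (fun P => Nat.card (S ⊓ 𝐍 P : Subgroup G)) (Set.toFinite _) (h.exists_fam hn)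
  have hmax' : ∀ P' ≤ S, S ⊓ 𝐍 P < S ⊓ 𝐍 P' → 𝐍 P' ≤ 𝐍 (Z ⊓ Vz p P') := fun P' h1 h2 => by
    by_contra h3
    exact (Trans.card_lt_of_lt h2).not_ge (hmax P' ⟨h1, h3⟩)
  refine ⟨P, hP, hPn, ?_, hmax'⟩
  set S₁ := S ⊓ 𝐍 P with hS₁
  have hp1 : IsPGroup p S₁ := h.syl.isPGroup.to_le inf_le_left
  refine isSylowIn_of_maximal inf_le_right hp1 fun R hR h1 h2 => ?_
  by_contra h3
  have h4 : S₁ < R := lt_of_le_of_ne h1 fun e => h3 e.symm.le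
  have h5 : S₁ < S := lt_of_le_of_ne inf_le_left fun e => h3 (h.syl.eq_of_le hR (e ▸ h1) le_top ▸ e.ge)
  have hPS₁ : P ≤ S₁ := le_inf hP le_normalizer
  have h6 := hmax' S₁ inf_le_left (lt_inf_normalizer h.syl.isPGroup h5)
  have h7 : Z ⊓ S₁ ≠ ⊥ := fun e => hPn (by
    rw [le_bot_iff.1 ((inf_le_inf_left Z ((Vz_le P).trans hPS₁)).trans e.le), coe_bot]
    exact fun x _ => by simp [mem_set_normalizer_iff])
  obtain ⟨T, hT, hST, hTZ, hc⟩ := h.ctl _ (h.inf_Vz_ne_bot inf_le_left h7) inf_le_left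
  have h8 := lt_inf_normalizer hR h4
  set R₁ := R ⊓ 𝐍 S₁
  have hR₁ : IsPGroup p R₁ := hR.to_le inf_le_left
  obtain ⟨l, hl, hlR⟩ := hT.exists_cj_le hR₁ (inf_le_right.trans h6)
  obtain ⟨x, hx, c, hc, rfl⟩ := ctlFus_subgroup_iff'.1 hc S₁
    ((le_inf inf_le_left (le_normalizer.trans h6)).trans hST) l hl ((cj_mono l h8.le).trans hlR)
  have h9 : cj c R₁ ≤ 𝐍 Z := by
    rw [cj_mul, cj_le_iff_le_cj_inv] at hlR
    exact hlR.trans (cj_le_of_mem_of_le (inv_mem hx) hTZ)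
  have h10 : cj c R₁ ≤ 𝐍 P :=
    cj_le_of_mem_of_le (centralizer_le_normalizer _ (centralizer_le hPS₁ hc)) (inf_le_left.trans h2)
  obtain ⟨y, hy, h11⟩ := (h.syl.mono h.SZ le_top).exists_cj_le (isPGroup_cj hR₁ c) h9
  have h12 : P ≤ cj c R₁ := by
    rw [← cj_eq_of_mem_centralizer (centralizer_le hPS₁ hc)]
    exact cj_mono c (hPS₁.trans h8.le)
  have h13 := hmax (cj y P) ⟨(cj_mono y h12).trans h11, fun h14 => hPn (by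
    rw [← cj_le_cj (g := y), cj_normalizer, cj_normalizer, cj_inf, cj_eq_of_mem_normalizer hy,
      ← conj_smul_eq_cj y (Vz p P), conj_smul_omegaOne_center, conj_smul_eq_cj]
    exact h14)⟩
  have h14 := Trans.card_le_of_le (le_inf h11 (cj_le_normalizer_cj h10 y))
  rw [card_cj, card_cj] at h14
  exact (Trans.card_lt_of_lt h8).not_ge (h14.trans h13)

theorem ti (h : IT p S Z) {P : Subgroup G} (hP : P ≤ S) {d : G} (hd : d ∈ Z ⊓ Vz p P) (h1 : d ≠ 1)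
    {k : G} (hk : k ∈ 𝐍 P) (h2 : k * d * k⁻¹ * d⁻¹ = 1) : k ∈ 𝐍 (Z ⊓ Vz p P) :=
  h.mem (X := zpowers d) (fun e => h1 (zpowers_eq_bot.1 e)) (zpowers_le.2 hd.1)
    (le_inf ((Vz_le P).trans hP)
      (ea_le_normalizer_of_le (ea_omegaOne_center P) le_rfl (zpowers_le.2 hd.2)))
    (by rw [← cj_eq_self_iff, cj_zpowers, mul_inv_eq_one.1 h2])
    (normalizer_le_normalizer_omegaOne_center P hk)

theorem ne_bot_of_not_le {Y D : Subgroup G} (h : ¬ Y ≤ 𝐍 D) : D ≠ ⊥ := by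
  rintro rfl
  exact h le_normalizer_of_normal

theorem hyp (h : IT p S Z) {P : Subgroup G} (hP : P ≤ S) (hn : ¬ 𝐍 P ≤ 𝐍 (Z ⊓ Vz p P))
    (hs : IsSylowIn p (S ⊓ 𝐍 P) (𝐍 P))
    (hmax : ∀ P' ≤ S, S ⊓ 𝐍 P < S ⊓ 𝐍 P' → 𝐍 P' ≤ 𝐍 (Z ⊓ Vz p P')) (hlt : S ⊓ 𝐍 P < S) :
    Hyp p (𝐍 P) ⊥ (Vz p P) (Z ⊓ Vz p P) (S ⊓ 𝐍 P) := by
  have hBT : Vz p P ≤ S ⊓ 𝐍 P := (Vz_le P).trans (le_inf hP le_normalizer)
  have hTD : S ⊓ 𝐍 P ≤ 𝐍 (Z ⊓ Vz p P) :=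
    (inf_le_inf h.SZ (normalizer_le_normalizer_omegaOne_center P)).trans
      inf_normalizer_le_normalizer_inf
  have hD : IsPGroup p (Z ⊓ Vz p P : Subgroup G) := hs.isPGroup.to_le (inf_le_right.trans hBT)
  refine ⟨hs, hBT, normalizer_le_normalizer_omegaOne_center P,
    (ea_commutator_self (ea_omegaOne_center P)).le, fun b hb => ea_pow (ea_omegaOne_center P) hb,
    inf_le_right, hTD, hn, fun x _ => mem_centralizer_bot x, fun g hg => ?_,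
    fun d hd h1 k hk h2 => h.ti hP hd h1 hk h2, fun I hI => ?_⟩
  · have h1 := hmax _ ((J_le _).trans inf_le_left) ((lt_inf_normalizer h.syl.isPGroup hlt).trans_le
      (inf_le_inf_left S (normalizer_le_normalizer_J (p := 0) _)))
    obtain ⟨d, h2, h3, h4, h5⟩ := exists_mem_cent hs.isPGroup hD hTD (ne_bot_of_not_le hn)
    have h6 := center_le_centerThompsonOf_zero hs.isPGroup ⟨hBT h2.2, h4⟩
    refine h.mem (fun e => h3 ?_) inf_le_left (le_inf (hBT.trans inf_le_left)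
      (hBT.trans ((le_normalizer_J _).trans h1))) (h1 hg.2)
      (normalizer_le_normalizer_omegaOne_center P hg.1)
    have : d ∈ Z ⊓ Vz p (thompsonSubgroupOf 0 (S ⊓ 𝐍 P)) :=
      ⟨h2.1, mem_omegaOne_center_iff.2 ⟨h6.1, h6.2, h5⟩⟩
    rwa [e] at this
  · obtain ⟨d, h2, h3, h4, -⟩ := exists_mem_cent hs.isPGroup hD hTD (ne_bot_of_not_le hn)
    exact ⟨d, h2, h3, centralizer_le (hI.trans (J_le _)) h4⟩

end IT

end Cfsg.Lib.ZJF
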